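import Groth.Prelude.Def_Conn
import Mathlib.LinearAlgebra.Trace

/-!
# Connections read along functionals `Ω → B`
-/

set_option autoImplicit false
set_option linter.unusedSectionVars false
universe v u
open TensorProduct Conn

namespace Groth.Agent.ConnAlg

variable {A : Type v} {B Ω M M' : Type u} [CommRing A] [CommRing B] [Algebra A B]
  [AddCommGroup Ω] [Module B Ω] [Module A Ω] [IsScalarTower A B Ω]
  [AddCommGroup M] [Module B M] [Module A M] [IsScalarTower A B M]
  [AddCommGroup M'] [Module B M'] [Module A M'] [IsScalarTower A B M']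

/-- Contraction of the second factor with `θ`. -/
noncomputable def ctr (θ : Ω →ₗ[B] B) : M ⊗[B] Ω →ₗ[B] M :=
  (TensorProduct.rid B M).toLinearMap ∘ₗ TensorProduct.map LinearMap.id θ

@[simp] lemma ctr_tmul (θ : Ω →ₗ[B] B) (m : M) (w : Ω) : ctr θ (m ⊗ₜ[B] w) = θ w • m := by
  simp [ctr]

lemma ctr_map (θ : Ω →ₗ[B] B) (f : M →ₗ[B] M') (x : M ⊗[B] Ω) :
    ctr θ (TensorProduct.map f LinearMap.id x) = f (ctr θ x) := by
  induction x using TensorProduct.induction_on with
  | zero => simp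
  | tmul m w => simp
  | add a b ha hb => simp [ha, hb]

/-- For `Ω` finite free the contractions separate `M ⊗ Ω`. -/
lemma ext_ctr [Module.Free B Ω] [Module.Finite B Ω] {x y : M ⊗[B] Ω}
    (h : ∀ θ : Ω →ₗ[B] B, ctr θ x = ctr θ y) : x = y := by
  let b := Module.Free.chooseBasis B Ω
  have key : ∀ z : M ⊗[B] Ω, z = ∑ i, ctr (b.coord i) z ⊗ₜ[B] b i := by
    intro z
    induction z using TensorProduct.induction_on with
    | zero => simp
    | tmul m w =>
      simp only [ctr_tmul, smul_tmul, ← tmul_sum, Module.Basis.coord_apply]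
      rw [b.sum_repr]
    | add a c ha hc =>
      conv_lhs => rw [ha, hc]
      simp only [map_add, add_tmul, Finset.sum_add_distrib]
  rw [key x, key y]
  simp only [h]

lemma along_eq (nabla : M →ₗ[A] M ⊗[B] Ω) (θ : Ω →ₗ[B] B) (m : M) :
    along nabla θ m = ctr θ (nabla m) := rfl

lemma along_smul (δ : Derivation A B Ω) (nabla : M →ₗ[A] M ⊗[B] Ω) (hc : IsConn δ nabla)
    (θ : Ω →ₗ[B] B) (b : B) (m : M) :
    along nabla θ (b • m) = b • along nabla θ m + θ (δ b) • m := by
  simp only [along_eq, hc b m, map_add, map_smul, ctr_tmul]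

lemma along_triv (δ : Derivation A B Ω) (θ : Ω →ₗ[B] B) (b : B) :
    along (triv δ) θ b = θ (δ b) := by
  simp [along_eq, triv_apply]

lemma isHorizontal_of_along [Module.Free B Ω] [Module.Finite B Ω]
    (nabla : M →ₗ[A] M ⊗[B] Ω) (nabla' : M' →ₗ[A] M' ⊗[B] Ω) (φ : M →ₗ[B] M')
    (h : ∀ (θ : Ω →ₗ[B] B) (m : M), along nabla' θ (φ m) = φ (along nabla θ m)) :
    IsHorizontal nabla nabla' φ := fun m =>
  ext_ctr fun θ => by rw [ctr_map]; exact h θ m

lemma along_hom (nabla : M →ₗ[A] M ⊗[B] Ω) (nabla' : M' →ₗ[A] M' ⊗[B] Ω)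
    (nabla'' : (M →ₗ[B] M') →ₗ[A] (M →ₗ[B] M') ⊗[B] Ω) (h : IsHomConn nabla nabla' nabla'')
    (θ : Ω →ₗ[B] B) (φ : M →ₗ[B] M') (m : M) :
    along nabla'' θ φ m = along nabla' θ (φ m) - φ (along nabla θ m) := by
  have e := congrArg (ctr θ) (h φ m)
  rw [ctr_map, map_sub, ctr_map] at e
  exact e

lemma along_tensor (nabla : M →ₗ[A] M ⊗[B] Ω) (nabla' : M' →ₗ[A] M' ⊗[B] Ω)
    (nabla'' : M ⊗[B] M' →ₗ[A] (M ⊗[B] M') ⊗[B] Ω) (h : IsTensorConn nabla nabla' nabla'')
    (θ : Ω →ₗ[B] B) (m : M) (m' : M') :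
    along nabla'' θ (m ⊗ₜ[B] m') = along nabla θ m ⊗ₜ[B] m' + m ⊗ₜ[B] along nabla' θ m' := by
  have h1 : ∀ x : M ⊗[B] Ω,
      ctr θ (swapR (x ⊗ₜ[B] m')) = ctr θ x ⊗ₜ[B] m' := by
    intro x
    induction x using TensorProduct.induction_on with
    | zero => simp
    | tmul a w => simp [swapR, smul_tmul']
    | add a c ha hc => simp [add_tmul, ha, hc]
  have h2 : ∀ y : M' ⊗[B] Ω,
      ctr θ ((TensorProduct.assoc B M M' Ω).symm (m ⊗ₜ[B] y)) = m ⊗ₜ[B] ctr θ y := by
    intro y
    induction y using TensorProduct.induction_on with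
    | zero => simp
    | tmul a w => simp
    | add a c ha hc => simp [tmul_add, ha, hc]
  rw [along_eq, h m m', map_add, h1, h2]
  rfl

/-- The trace of `[∇_θ, φ]` is `θ (δ (tr φ))`. -/
lemma trace_along_hom [Module.Free B M] [Module.Finite B M] (δ : Derivation A B Ω)
    (nabla : M →ₗ[A] M ⊗[B] Ω) (hc : IsConn δ nabla)
    (nablaE : (M →ₗ[B] M) →ₗ[A] (M →ₗ[B] M) ⊗[B] Ω) (hE : IsHomConn nabla nabla nablaE)
    (θ : Ω →ₗ[B] B) (φ : M →ₗ[B] M) :
    LinearMap.trace B M (along nablaE θ φ) = θ (δ (LinearMap.trace B M φ)) := by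
  let b := Module.Free.chooseBasis B M
  let D : M →ₗ[A] M := along nabla θ
  let C : M →ₗ[B] M := b.constr B (fun i => D (b i))
  let L : M →ₗ[B] M := b.constr B (fun i => ∑ j, θ (δ (b.repr (φ (b i)) j)) • b j)
  have key : along nablaE θ φ = L + (C ∘ₗ φ - φ ∘ₗ C) := by
    apply b.ext
    intro i
    rw [along_hom nabla nabla nablaE hE]
    simp only [LinearMap.add_apply, LinearMap.sub_apply, LinearMap.comp_apply, L, C,
      Module.Basis.constr_basis]
    conv_lhs => enter [1]; rw [← b.sum_repr (φ (b i))]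
    conv_rhs => enter [2, 1]; rw [← b.sum_repr (φ (b i))]
    simp only [map_sum, map_smul, Module.Basis.constr_basis, along_smul δ nabla hc,
      Finset.sum_add_distrib]
    simp only [D]
    abel
  rw [key, map_add, map_sub]
  have : LinearMap.trace B M (C ∘ₗ φ) = LinearMap.trace B M (φ ∘ₗ C) :=
    LinearMap.trace_mul_comm B C φ
  rw [this, sub_self, add_zero, LinearMap.trace_eq_matrix_trace B b L,
    LinearMap.trace_eq_matrix_trace B b φ, Matrix.trace, Matrix.trace, map_sum, map_sum]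
  refine Finset.sum_congr rfl fun i _ => ?_
  simp only [Matrix.diag_apply, LinearMap.toMatrix_apply, L, Module.Basis.constr_basis,
    Module.Basis.repr_sum_self]

end Groth.Agent.ConnAlg
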